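import Groth.Agent.UnibEtale.Nhd
import Groth.Agent.UnibEtale.Comp
import Groth.Agent.S2755
import Groth.Agent.SrcDescent.Scheme

/-! Unramified morphisms over a point with geometrically unibranch local ring. -/

set_option autoImplicit false
set_option backward.isDefEq.respectTransparency.types false

universe u

open CategoryTheory CategoryTheory.Limits AlgebraicGeometry TopologicalSpace

namespace Groth.Agent.UnibPoint

theorem etale_nhd {X Y : Scheme.{u}} (f : X ⟶ Y) [IsIntegral Y] [LocallyOfFiniteType f] [FormallyUnramified f]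
    (x : X) (hY : CAlg2.IsGeomUnibranch (Y.presheaf.stalk (f x)))
    (hinj : Function.Injective (f.stalkMap x)) : ∃ U : X.Opens, x ∈ U ∧ Etale (U.ι ≫ f) := by
  obtain ⟨W, hW, hxW, -⟩ := exists_isAffineOpen_mem_and_subset (x := f x) (U := ⊤) trivial
  obtain ⟨V, hV, hxV, hVW⟩ := exists_isAffineOpen_mem_and_subset (x := x) (U := f ⁻¹ᵁ W) hxW
  haveI : Nonempty W.toScheme := ⟨⟨f x, hxW⟩⟩
  haveI : IsDomain Γ(Y, W) := inferInstance
  have hFT := f.finiteType_appLE hW hV hVW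
  algebraize [(f.appLE W V hVW).hom]
  let p := (hW.primeIdealOf ⟨f x, hVW hxV⟩).asIdeal
  let q := (hV.primeIdealOf ⟨x, hxV⟩).asIdeal
  have : q.LiesOver p :=
    ⟨congr($(IsAffineOpen.comap_primeIdealOf_appLE W hW V hV hVW hxV).1).symm⟩
  let := Localization.AtPrime.algebraOfLiesOver p q
  have h1 : Algebra.FormallyUnramified (Localization.AtPrime p) (Localization.AtPrime q) := by
    rw [← RingHom.formallyUnramified_algebraMap]
    exact (RingHom.FormallyUnramified.respectsIso.arrow_mk_iso_iff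
      (IsAffineOpen.arrowStalkMapIso f W hW V hV hVW hxV)).mp (FormallyUnramified.stalkMap f x)
  haveI : Algebra.IsUnramifiedAt Γ(Y, W) q :=
    Algebra.FormallyUnramified.comp _ (Localization.AtPrime p) _
  have hinj' : Function.Injective (Localization.localRingHom p q (algebraMap Γ(Y, W) Γ(X, V)) (q.over_def p)) :=
    (RingHom.injective_respectsIso.arrow_mk_iso_iff
      (IsAffineOpen.arrowStalkMapIso f W hW V hV hVW hxV)).mp hinj
  obtain ⟨r, hr, he⟩ := UnibEtale.exists_away_etale Γ(Y, W) Γ(X, V) q p (q.over_def p)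
    (UnibEtale.isGeomUnibranch_of_ringEquiv (UnibEtale.stalkEquiv hW (hVW hxV)) hY) hinj'
  have hle : X.basicOpen r ≤ f ⁻¹ᵁ W := (X.basicOpen_le r).trans hVW
  refine ⟨X.basicOpen r, StalkLoc7.mem_basicOpen hV hxV hr, ?_⟩
  haveI : IsAffine W.toScheme := hW
  haveI : IsAffine (X.basicOpen r).toScheme := hV.basicOpen r
  rw [← Scheme.Hom.resLE_comp_ι f hle]
  haveI : Etale (f.resLE W (X.basicOpen r) hle) := by
    rw [HasRingHomProperty.iff_of_isAffine (P := @Etale)]
    refine (RingHom.Etale.respectsIso.arrow_mk_iso_iff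
      (arrowResLEAppIso f W (X.basicOpen r) hle)).mpr ?_
    have := hV.isLocalization_basicOpen r
    convert RingHom.Etale.respectsIso.1 _
      (IsLocalization.algEquiv (.powers r) _ Γ(X, X.basicOpen r)).toRingEquiv he
    ext a
    exact StalkLoc7.appLE_eq f hVW r a
  infer_instance

theorem injective_stalkMap {X Y : Scheme.{u}} (f : X ⟶ Y) [IsIntegral Y] {x x' : X} (hsp : x' ⤳ x)
    (hx' : f x' = genericPoint Y) : Function.Injective (f.stalkMap x) := by
  rw [injective_iff_map_eq_zero]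
  intro a ha
  obtain ⟨W, hxW, s, rfl⟩ := Y.presheaf.germ_exist a
  have hx'W : x' ∈ f ⁻¹ᵁ W := hsp.mem_open (f ⁻¹ᵁ W).2 hxW
  rw [Scheme.Hom.germ_stalkMap_apply] at ha
  have h1 : X.presheaf.germ (f ⁻¹ᵁ W) x' hx'W (f.app W s) = 0 := by
    rw [← TopCat.Presheaf.germ_stalkSpecializes_apply X.presheaf hxW hsp, ha, map_zero]
  rw [← Scheme.Hom.germ_stalkMap_apply] at h1
  have hF : IsField (Y.presheaf.stalk (f x')) := by rw [hx']; exact Field.toIsField Y.functionField
  letI := hF.toField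
  have h2 : Y.presheaf.germ W (f x') hx'W s = 0 :=
    (f.stalkMap x').hom.injective (h1.trans (map_zero _).symm)
  have hs : s = 0 := germ_injective_of_isIntegral Y (f x') hx'W (h2.trans (map_zero _).symm)
  rw [hs, map_zero]

theorem etale_at {X Y : Scheme.{u}} (f : X ⟶ Y) [IsIntegral Y] (x : X)
    (hY : CAlg2.IsGeomUnibranch (Y.presheaf.stalk (f x))) (hsp : ∃ x' : X, x' ⤳ x ∧ f x' = genericPoint ↑Y)
    (U : X.Opens) (hxU : x ∈ U) [FormallyUnramified (U.ι ≫ f)] [LocallyOfFiniteType (U.ι ≫ f)] :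
    ∃ V : X.Opens, x ∈ V ∧ Etale (V.ι ≫ f) := by
  obtain ⟨x', hx', hfx'⟩ := hsp
  have hsp' : (⟨x', hx'.mem_open U.2 hxU⟩ : U) ⤳ ⟨x, hxU⟩ :=
    (U.ι.isOpenEmbedding.isInducing.specializes_iff).1 hx'
  obtain ⟨V, hxV, hV⟩ := etale_nhd (U.ι ≫ f) ⟨x, hxU⟩ hY (injective_stalkMap (U.ι ≫ f) hsp' hfx')
  refine ⟨U.ι ''ᵁ V, ⟨_, hxV, rfl⟩, ?_⟩
  rw [← Category.assoc, ← Scheme.Hom.isoImage_hom_ι, Category.assoc] at hV
  haveI := hV
  rw [show (U.ι ''ᵁ V).ι ≫ f = (U.ι.isoImage V).inv ≫ (U.ι.isoImage V).hom ≫ (U.ι ''ᵁ V).ι ≫ f by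
    rw [Iso.inv_hom_id_assoc]]
  infer_instance

end Groth.Agent.UnibPoint
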